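import Mathlib

/-!
The Baer–Suzuki theorem.
-/

set_option autoImplicit false
set_option linter.style.haveILetI false

open scoped Pointwise

namespace CfsgLib.Baer

variable {G : Type*} [Group G] [Finite G] {p : ℕ} [hp : Fact p.Prime]

omit [Finite G] hp in
theorem conj_smul_def (g : G) (H : Subgroup G) :
    MulAut.conj g • H = H.map (MulAut.conj g).toMonoidHom := rfl

omit [Finite G] hp in
theorem le_normalizer_sSup_of_forall {x : Subgroup G} {E : Set (Subgroup G)}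
    (h : ∀ g ∈ x, ∀ e ∈ E, MulAut.conj g • e ∈ E) :
    x ≤ Subgroup.normalizer ((sSup E : Subgroup G) : Set G) := by
  intro g hg
  have h1 : ∀ g ∈ x, MulAut.conj g • sSup E ≤ sSup E := fun g hg => by
    rw [conj_smul_def, Subgroup.map_le_iff_le_comap]
    refine sSup_le fun e he => ?_
    rw [← Subgroup.map_le_iff_le_comap]
    exact le_sSup (h g hg e he)
  rw [Subgroup.mem_normalizer_iff]
  intro y
  constructor
  · intro hy
    exact h1 g hg ⟨y, hy, rfl⟩
  · intro hy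
    have := h1 g⁻¹ (inv_mem hg) ⟨_, hy, rfl⟩
    simpa [mul_assoc] using this

/-- In a `p`-group generated by a normal set `S` of subgroups, a proper subset generating a
subgroup containing no further member is moved only by some members: one more member normalizes
the generated subgroup. -/
theorem exists_normalizing : ∀ (n : ℕ) (P : Subgroup G), Nat.card P = n → IsPGroup p P →
    ∀ S : Set (Subgroup G), (∀ g ∈ P, ∀ s ∈ S, MulAut.conj g • s ∈ S) → sSup S = P →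
    ∀ E ⊆ S, E ≠ S → (∀ s ∈ S, s ≤ sSup E → s ∈ E) →
      ∃ x ∈ S, x ∉ E ∧ x ≤ Subgroup.normalizer ((sSup E : Subgroup G) : Set G) := by
  intro n
  induction n using Nat.strong_induction_on with
  | _ n IH =>
  intro P hn hP S hS hgen E hE hne hmem
  set R := sSup E with hR
  have hRP : R ≤ P := hgen ▸ sSup_le_sSup hE
  obtain ⟨s₀, hs₀, hs₀E⟩ : ∃ s ∈ S, s ∉ E :=
    Set.exists_of_ssubset (hE.ssubset_of_ne hne)
  have hlt : R.subgroupOf P ≠ ⊤ := by
    rw [Ne, Subgroup.subgroupOf_eq_top]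
    exact fun h => hs₀E (hmem s₀ hs₀ ((hgen ▸ le_sSup hs₀ : s₀ ≤ P).trans h))
  obtain ⟨M, hM, hRM⟩ := (eq_top_or_exists_le_coatom (R.subgroupOf P)).resolve_left hlt
  haveI : Group.IsNilpotent P := hP.isNilpotent
  haveI : M.Normal := Subgroup.NormalizerCondition.normal_of_coatom M
    Group.normalizerCondition_of_isNilpotent hM
  set M' := M.map P.subtype with hM'
  set S' := {s ∈ S | s ≤ M'} with hS'
  have hM'n : ∀ g ∈ P, MulAut.conj g • M' ≤ M' := by
    rintro g hg _ ⟨_, ⟨m, hm, rfl⟩, rfl⟩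
    exact ⟨⟨g, hg⟩ * m * ⟨g, hg⟩⁻¹, Subgroup.Normal.conj_mem inferInstance m hm _, rfl⟩
  have hS'c : ∀ g ∈ P, ∀ s ∈ S', MulAut.conj g • s ∈ S' := fun g hg s hs =>
    ⟨hS g hg s hs.1, (Subgroup.pointwise_smul_le_pointwise_smul_iff.mpr hs.2).trans (hM'n g hg)⟩
  have hES' : E ⊆ S' := fun e he => ⟨hE he, fun y hy =>
    ⟨⟨y, hRP (le_sSup he hy)⟩, hRM (Subgroup.mem_subgroupOf.mpr (le_sSup he hy)), rfl⟩⟩
  by_cases hEeq : E = S'
  · refine ⟨s₀, hs₀, hs₀E, le_normalizer_sSup_of_forall fun g hg e he => ?_⟩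
    rw [hEeq] at he ⊢
    exact hS'c g ((hgen ▸ le_sSup hs₀ : s₀ ≤ P) hg) e he
  set P' := sSup S' with hP'
  have hP'M : P' ≤ M' := sSup_le fun s hs => hs.2
  have hP'P : P' ≤ P := hP'M.trans (Subgroup.map_subtype_le _)
  have hlt' : Nat.card P' < n := by
    rw [← hn]
    refine Set.ncard_lt_ncard (lt_of_le_of_ne hP'P fun h => hM.1 ?_) (Set.toFinite _)
    refine eq_top_iff.mpr fun y _ => ?_
    obtain ⟨m, hm, he⟩ := (h.ge.trans hP'M) y.2
    rwa [← Subtype.ext he]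
  obtain ⟨x, hx, hxE, hxn⟩ := IH _ hlt' P' rfl (hP.to_le hP'P) S'
    (fun g hg => hS'c g (hP'P hg)) rfl E hES' hEeq fun s hs => hmem s hs.1
  exact ⟨x, hx.1, hxE, hxn⟩

/-- **Baer–Suzuki.** -/
theorem baer_suzuki (X : Subgroup G) (hX : IsPGroup p X)
    (h : ∀ g : G, IsPGroup p ↥(X ⊔ X.map (MulAut.conj g).toMonoidHom)) :
    ∃ N : Subgroup G, N.Normal ∧ IsPGroup p N ∧ X ≤ N := by
  classical
  let D : Set (Subgroup G) := Set.range fun g : G => MulAut.conj g • X
  have hDc : ∀ g : G, ∀ s ∈ D, MulAut.conj g • s ∈ D := by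
    rintro g _ ⟨k, rfl⟩
    exact ⟨g * k, by simp only [map_mul, mul_smul]⟩
  have hpair : ∀ x ∈ D, ∀ y ∈ D, IsPGroup p ↥(x ⊔ y) := by
    rintro _ ⟨a, rfl⟩ _ ⟨b, rfl⟩
    have h1 : MulAut.conj a • X ⊔ MulAut.conj b • X
        = (X ⊔ X.map (MulAut.conj (a⁻¹ * b)).toMonoidHom).map (MulAut.conj a).toMonoidHom := by
      rw [Subgroup.map_sup, ← conj_smul_def, ← conj_smul_def, ← conj_smul_def, ← mul_smul,
        ← map_mul, mul_inv_cancel_left]
    rw [h1]
    exact (h _).map _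
  let DP : Sylow p G → Set (Subgroup G) := fun P => {s ∈ D | s ≤ (P : Subgroup G)}
  have hDPcard : ∀ P Q : Sylow p G, (DP P).ncard = (DP Q).ncard := by
    intro P Q
    obtain ⟨g, rfl⟩ := MulAction.exists_smul_eq G P Q
    have : DP (g • P) = (fun s => MulAut.conj g • s) '' DP P := by
      ext s
      show (s ∈ D ∧ s ≤ MulAut.conj g • (P : Subgroup G)) ↔ _
      constructor
      · rintro ⟨hs, hle⟩
        refine ⟨MulAut.conj g⁻¹ • s, ⟨hDc _ s hs, ?_⟩, ?_⟩
        · rw [map_inv, ← Subgroup.subset_pointwise_smul_iff]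
          exact hle
        · show MulAut.conj g • MulAut.conj g⁻¹ • s = s
          rw [← mul_smul, ← map_mul, mul_inv_cancel, map_one, one_smul]
      · rintro ⟨s, ⟨hs, hle⟩, rfl⟩
        exact ⟨hDc _ s hs, Subgroup.pointwise_smul_le_pointwise_smul_iff.mpr hle⟩
    rw [this, Set.ncard_image_of_injective _ (MulAction.injective _)]
  by_cases hall : ∀ P Q : Sylow p G, DP P = DP Q
  · refine ⟨⨅ P : Sylow p G, (P : Subgroup G), ⟨fun y hy g => ?_⟩, ?_, ?_⟩
    · rw [Subgroup.mem_iInf] at hy ⊢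
      intro P
      have h1 : g • (g⁻¹ • P) = P := by rw [← mul_smul, mul_inv_cancel, one_smul]
      rw [← h1]
      exact ⟨y, hy (g⁻¹ • P), rfl⟩
    · exact (default : Sylow p G).2.to_le (iInf_le _ _)
    · refine le_iInf fun P => ?_
      obtain ⟨Q, hQ⟩ := hX.exists_le_sylow
      have hXQ : X ∈ DP Q := ⟨⟨1, by simp⟩, hQ⟩
      exact (hall Q P ▸ hXQ).2
  exfalso
  push Not at hall
  haveI := Fintype.ofFinite (Sylow p G)
  obtain ⟨⟨P₀, Q₀⟩, hPQ, hmax⟩ := Finset.exists_max_image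
    ((Finset.univ : Finset (Sylow p G × Sylow p G)).filter fun z => DP z.1 ≠ DP z.2)
    (fun z => (DP z.1 ∩ DP z.2).ncard) (by
      obtain ⟨P, Q, h⟩ := hall
      exact ⟨(P, Q), Finset.mem_filter.mpr ⟨Finset.mem_univ _, h⟩⟩)
  simp only [Finset.mem_filter, Finset.mem_univ, true_and] at hPQ hmax
  set E := DP P₀ ∩ DP Q₀ with hE
  set R := sSup E with hR
  have key : ∀ P : Sylow p G, E ⊆ DP P → E ≠ DP P → R ≤ (P₀ : Subgroup G) →
      R ≤ (Q₀ : Subgroup G) → ∃ x ∈ DP P, x ∉ E ∧ x ≤ Subgroup.normalizer (R : Set G) := by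
    intro P hEP hne hRP hRQ
    have hle : sSup (DP P) ≤ (P : Subgroup G) := sSup_le fun s hs => hs.2
    refine exists_normalizing _ (sSup (DP P)) rfl (P.2.to_le hle) (DP P) ?_ rfl E hEP hne
      fun s hs hsR => ⟨⟨hs.1, hsR.trans hRP⟩, ⟨hs.1, hsR.trans hRQ⟩⟩
    intro g hg s hs
    refine ⟨hDc g s hs.1, ?_⟩
    calc MulAut.conj g • s ≤ MulAut.conj g • (P : Subgroup G) :=
          Subgroup.pointwise_smul_le_pointwise_smul_iff.mpr hs.2
      _ = (P : Subgroup G) := Subgroup.conj_smul_eq_self_of_mem (hle hg)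
  have hRP : R ≤ (P₀ : Subgroup G) := sSup_le fun s hs => hs.1.2
  have hRQ : R ≤ (Q₀ : Subgroup G) := sSup_le fun s hs => hs.2.2
  have hneP : E ≠ DP P₀ := fun h => hPQ (Set.eq_of_subset_of_ncard_le
    (h ▸ Set.inter_subset_right) (hDPcard Q₀ P₀).le (Set.toFinite _))
  have hneQ : E ≠ DP Q₀ := fun h => hPQ (Set.eq_of_subset_of_ncard_le
    (h ▸ Set.inter_subset_left) (hDPcard P₀ Q₀).le (Set.toFinite _)).symm
  obtain ⟨x, hx, hxE, hxn⟩ := key P₀ Set.inter_subset_left hneP hRP hRQ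
  obtain ⟨y, hy, hyE, hyn⟩ := key Q₀ Set.inter_subset_right hneQ hRP hRQ
  have hR' : IsPGroup p R := P₀.2.to_le hRP
  obtain ⟨T, hT⟩ : ∃ T : Sylow p G, R ⊔ (x ⊔ y) ≤ (T : Subgroup G) :=
    (hR'.to_sup_of_normal_left' (hpair x hx.1 y hy.1) (sup_le hxn hyn)).exists_le_sylow
  have hET : E ⊆ DP T := fun s hs => ⟨hs.1.1, (le_sSup hs).trans (le_sup_left.trans hT)⟩
  have hxT : x ∈ DP T := ⟨hx.1, (le_sup_left.trans le_sup_right).trans hT⟩
  have hyT : y ∈ DP T := ⟨hy.1, (le_sup_right.trans le_sup_right).trans hT⟩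
  have hTP : DP T = DP P₀ := by
    by_contra hne
    refine absurd (hmax (T, P₀) hne) (not_le.mpr ?_)
    exact Set.ncard_lt_ncard ⟨fun s hs => ⟨hET hs, hs.1⟩, fun h' => hxE (h' ⟨hxT, hx⟩)⟩
      (Set.toFinite _)
  have hTQ : DP T = DP Q₀ := by
    by_contra hne
    refine absurd (hmax (T, Q₀) hne) (not_le.mpr ?_)
    exact Set.ncard_lt_ncard ⟨fun s hs => ⟨hET hs, hs.2⟩, fun h' => hyE (h' ⟨hyT, hy⟩)⟩
      (Set.toFinite _)
  exact hPQ (hTP.symm.trans hTQ)

/-- An element outside `O_p` generates a non-`p`-group with one of its conjugates. -/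
theorem exists_conj_not_isPGroup {a : G} (ha : IsPGroup p (Subgroup.zpowers a))
    (h : ∀ N : Subgroup G, N.Normal → IsPGroup p N → a ∉ N) :
    ∃ g : G, ¬ IsPGroup p (Subgroup.closure ({a, g * a * g⁻¹} : Set G)) := by
  by_contra hc
  push Not at hc
  obtain ⟨N, hNn, hNp, hle⟩ := baer_suzuki (Subgroup.zpowers a) ha fun g => by
    refine (hc g).to_le (sup_le ?_ ?_)
    · exact Subgroup.zpowers_le.mpr (Subgroup.subset_closure (Set.mem_insert _ _))
    · rw [MonoidHom.map_zpowers, Subgroup.zpowers_le]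
      exact Subgroup.subset_closure (Set.mem_insert_of_mem _ (by simp))
  exact h N hNn hNp (hle (Subgroup.mem_zpowers a))

end CfsgLib.Baer
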