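import Cfsg.Agent.Lib.Baer.Basic
import Cfsg.Agent.Lib.ZJ.RealElements
import Cfsg.Agent.Lib.Coprime.SchurZassenhaus

/-!
No nontrivial element of odd order conjugate to its inverse: the Sylow two-subgroup is normal.
-/

set_option autoImplicit false
set_option linter.style.haveILetI false

open scoped Pointwise

namespace CfsgLib.Baer

variable {G : Type*} [Group G] [Finite G]

theorem sylow_two_normal_of_no_inverted
    (h : ∀ x : G, x ≠ 1 → Odd (orderOf x) → ∀ t : G, t * x * t⁻¹ ≠ x⁻¹) (P : Sylow 2 G) :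
    (P : Subgroup G).Normal := by
  haveI : Fact (Nat.Prime 2) := ⟨Nat.prime_two⟩
  haveI := Fitting.pCore_normal (G := G) 2
  set D := Cfsg.pCore 2 G with hD
  suffices hPD : (P : Subgroup G) ≤ D by
    have : (P : Subgroup G) = D :=
      le_antisymm hPD (IsPGroup.le_sylow_of_normal (Fitting.pCore_isPGroup 2) P)
    rw [this]; infer_instance
  by_contra hPD
  set f := QuotientGroup.mk' D with hf
  have hP' : IsPGroup 2 ((P : Subgroup G).map f) := P.2.map f
  have hP'1 : (P : Subgroup G).map f ≠ ⊥ := fun h0 => hPD (by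
    rw [Subgroup.map_eq_bot_iff, hf, QuotientGroup.ker_mk'] at h0; exact h0)
  haveI : Nontrivial ((P : Subgroup G).map f) := (Subgroup.nontrivial_iff_ne_bot _).mpr hP'1
  obtain ⟨n, hn0, hn⟩ := (IsPGroup.nontrivial_iff_card hP').mp inferInstance
  obtain ⟨⟨a, haP⟩, ha⟩ := exists_prime_orderOf_dvd_card' (G := (P : Subgroup G).map f) 2
    (hn ▸ dvd_pow_self 2 hn0.ne')
  rw [Subgroup.orderOf_mk] at ha
  have haa : a * a = 1 := by rw [← pow_two, ← ha, pow_orderOf_eq_one]
  obtain ⟨g, hg⟩ := exists_conj_not_isPGroup (p := 2) (a := a)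
    (IsPGroup.of_card (n := 1) (by rw [Nat.card_zpowers, ha, pow_one]))
    (fun N hN hNp haN => by
      have h1 := (Fitting.le_pCore hN hNp).trans ZJ.pCore_quotient_pCore_le_bot haN
      rw [Subgroup.mem_bot] at h1
      rw [h1, orderOf_one] at ha
      omega)
  set b := g * a * g⁻¹ with hb
  have hbb : b * b = 1 := by
    calc b * b = g * (a * a) * g⁻¹ := by rw [hb]; group
      _ = 1 := by rw [haa]; group
  set c := a * b with hc
  have hinv : a * c * a⁻¹ = c⁻¹ := by
    rw [hc, mul_inv_rev, inv_eq_of_mul_eq_one_right haa, inv_eq_of_mul_eq_one_right hbb, ← mul_assoc,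
      haa, one_mul]
  -- `c` is not a two-element
  have hcne : ¬ ∃ k, orderOf c = 2 ^ k := by
    rintro ⟨k, hk⟩
    refine hg ?_
    have hCn : Subgroup.zpowers a ≤ Subgroup.normalizer (Subgroup.zpowers c : Set _) := by
      rw [Subgroup.zpowers_le]
      have hm : (Subgroup.zpowers c).map (MulAut.conj a).toMonoidHom = Subgroup.zpowers c := by
        rw [MonoidHom.map_zpowers]
        show Subgroup.zpowers (a * c * a⁻¹) = _
        rw [hinv, Subgroup.zpowers_inv]
      exact Coprime.mem_normalizer_iff_conj_smul.mpr hm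
    refine ((IsPGroup.of_card (p := 2) (n := k) (by rw [Nat.card_zpowers, hk])).to_sup_of_normal_left'
      (IsPGroup.of_card (p := 2) (n := 1) (by rw [Nat.card_zpowers, ha, pow_one])) hCn).to_le ?_
    rw [Subgroup.closure_le]
    rintro y (hy | hy)
    · rw [SetLike.mem_coe, hy]; exact Subgroup.mem_sup_right (Subgroup.mem_zpowers _)
    · rw [Set.mem_singleton_iff] at hy
      have : y = a * c := by rw [hy, hc, hb, ← mul_assoc, haa, one_mul]
      rw [SetLike.mem_coe, this]
      exact mul_mem (Subgroup.mem_sup_right (Subgroup.mem_zpowers _)) (Subgroup.mem_sup_left (Subgroup.mem_zpowers _))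
  obtain ⟨c₀, hc₀⟩ := QuotientGroup.mk'_surjective D c
  obtain ⟨k, m, hm, hkm⟩ := Nat.exists_eq_pow_mul_and_not_dvd (orderOf_pos c₀).ne' 2 (by norm_num)
  set x := c₀ ^ (2 ^ k) with hx
  have hxo : orderOf x = m := by
    rw [hx, orderOf_pow' _ (by positivity), hkm, Nat.gcd_eq_right (dvd_mul_right _ _),
      Nat.mul_div_cancel_left _ (by positivity)]
  have hxodd : Odd (orderOf x) := by
    rw [hxo, Nat.odd_iff]; omega
  have hfx : f x = c ^ (2 ^ k) := by rw [hx, map_pow, hf, hc₀]
  have hx1 : f x ≠ 1 := fun h0 => hcne (by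
    obtain ⟨j, -, hj⟩ := (Nat.dvd_prime_pow Nat.prime_two).mp (orderOf_dvd_of_pow_eq_one (hfx ▸ h0))
    exact ⟨j, hj⟩)
  obtain ⟨t, ht⟩ := QuotientGroup.mk'_surjective D a
  have hty : f (t * x * t⁻¹) = (f x)⁻¹ := by
    rw [map_mul, map_mul, map_inv, hfx, show f t = a from ht, ← conj_pow, hinv, inv_pow]
  set H := Subgroup.zpowers x with hH
  set J := MulAut.conj t • H with hJ
  have hcop : (Nat.card D).Coprime (Nat.card H) := by
    obtain ⟨j, hj⟩ := IsPGroup.iff_card.mp (Fitting.pCore_isPGroup (G := G) 2)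
    rw [hD, hj, hH, Nat.card_zpowers]
    exact Nat.Coprime.pow_left j (Nat.coprime_two_left.mpr hxodd)
  have hcop' : (Nat.card D).Coprime (Nat.card J) := by rw [hJ, Coprime.card_conj_smul]; exact hcop
  have hnorm : ∀ L : Subgroup G, L ≤ Subgroup.normalizer (D : Set G) := fun L => by
    rw [Subgroup.normalizer_eq_top]; exact le_top
  have hsup : D ⊔ H = D ⊔ J := by
    have hle : J ≤ D ⊔ H := by
      rw [hJ, hH]
      change (Subgroup.zpowers x).map (MulAut.conj t).toMonoidHom ≤ _
      rw [MonoidHom.map_zpowers, Subgroup.zpowers_le]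
      show t * x * t⁻¹ ∈ _
      have hm : t * x * t⁻¹ * x ∈ D := by
        rw [← QuotientGroup.eq_one_iff]
        show f (t * x * t⁻¹ * x) = 1
        rw [map_mul, hty, inv_mul_cancel]
      have := mul_mem (Subgroup.mem_sup_left (T := H) hm) (Subgroup.mem_sup_right (S := D)
        (inv_mem (Subgroup.mem_zpowers x)))
      simpa [mul_assoc] using this
    refine (Subgroup.eq_of_le_of_card_ge (sup_le le_sup_left hle) ?_).symm
    rw [Coprime.card_sup_of_coprime (hnorm _) hcop, Coprime.card_sup_of_coprime (hnorm _) hcop', hJ,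
      Coprime.card_conj_smul]
  obtain ⟨d, hd, hde⟩ := Coprime.exists_conj_of_coprime (hnorm _) hcop hcop' hsup
    (Or.inr (Coprime.isSolvable_of_le le_rfl inferInstance))
  set s := d⁻¹ * t with hs
  have hmem : s * x * s⁻¹ ∈ H := by
    have h1 : t * x * t⁻¹ ∈ MulAut.conj d • H := hde ▸ Coprime.conj_mem_conj_smul (Subgroup.mem_zpowers x)
    rw [Coprime.mem_conj_smul_iff] at h1
    simpa [hs, mul_assoc] using h1
  have hfd : f d = 1 := (QuotientGroup.eq_one_iff d).mpr hd
  have hone : s * x * s⁻¹ * x ∈ H ⊓ D := by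
    refine Subgroup.mem_inf.mpr ⟨mul_mem hmem (Subgroup.mem_zpowers x), ?_⟩
    rw [← QuotientGroup.eq_one_iff]
    show f (s * x * s⁻¹ * x) = 1
    rw [hs, map_mul, map_mul, map_mul, map_inv, map_mul, map_inv, hfd, inv_one, one_mul,
      show f t * f x * (f t)⁻¹ = (f x)⁻¹ by rw [← map_inv f t, ← map_mul, ← map_mul, hty],
      inv_mul_cancel]
  rw [Coprime.inf_eq_bot_of_coprime_card hcop.symm, Subgroup.mem_bot] at hone
  exact h x (fun h0 => hx1 (by rw [h0, map_one])) hxodd s (eq_inv_of_mul_eq_one_left hone)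

end CfsgLib.Baer
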